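import Mathlib
import Groth.Agent.FlatMor12.RedSmooth
import Groth.Agent.FlatMor12.GenericSmooth
import Groth.Agent.CAlgSmall.NormNagata
import Groth.Agent.NormalizationLib.Basic
import Groth.Agent.NormalizationLib.Finite

/-! The normalization of the reduced base change of a curve becomes smooth after a finite purely
inseparable extension (algebra). -/

set_option autoImplicit false
set_option backward.isDefEq.respectTransparency false

universe u

namespace Groth.Agent.EGA43.SmoothNorm

open TensorProduct Groth.Agent.FlatMor12.RedSmooth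

/-- A normal algebra of finite type and dimension at most one over a perfect field is smooth. -/
theorem smooth_of_dedekind (P C : Type u) [Field P] [PerfectField P] [CommRing C]
    [IsDedekindDomain C] [Algebra P C] [Algebra.FiniteType P C] : Algebra.Smooth P C := by
  have hfp : Algebra.FinitePresentation P C := Algebra.FinitePresentation.of_finiteType.1 inferInstance
  refine ⟨Algebra.smoothLocus_eq_univ_iff.1 (Set.eq_univ_of_forall fun q => ?_), hfp⟩
  have : Algebra.EssFiniteType P (Localization.AtPrime q.asIdeal) := .comp P C _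
  have : IsRegularLocalRing (Localization.AtPrime q.asIdeal) := by
    by_cases hq : q.asIdeal = ⊥
    · have : IsFractionRing C (Localization.AtPrime q.asIdeal) := by
        have h : q.asIdeal.primeCompl = nonZeroDivisors C := by
          ext x
          simp [hq, Ideal.primeCompl]
        show IsLocalization (nonZeroDivisors C) (Localization.AtPrime q.asIdeal)
        rw [← h]
        infer_instance
      let : Field (Localization.AtPrime q.asIdeal) := IsFractionRing.toField C
      infer_instance
    · have := IsLocalization.AtPrime.isDiscreteValuationRing_of_dedekind_domain C hq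
        (Localization.AtPrime q.asIdeal)
      infer_instance
  show Algebra.FormallySmooth P (Localization.AtPrime q.asIdeal)
  exact Groth.Agent.FlatMor12.GenericSmooth.formallySmooth_of_regular_of_perfect P _

/-- The integral closure of a finite type domain of dimension at most one over a perfect field is
smooth, and finite. -/
theorem smooth_integralClosure (P B K : Type u) [Field P] [PerfectField P] [CommRing B] [IsDomain B]
    [Algebra P B] [Algebra.FiniteType P B] [Ring.KrullDimLE 1 B] [Field K] [Algebra B K]
    [IsFractionRing B K] [Algebra P K] [IsScalarTower P B K] :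
    Module.Finite B (integralClosure B K) ∧ Algebra.Smooth P (integralClosure B K) := by
  have hN : CAlg.IsNagata B := CAlgH.isNagata_of_finiteType (NormalizationLib.isNagata_field P) B
  have : IsNoetherianRing B := hN.1
  have : Algebra.EssFiniteType B K := .of_isLocalization K (nonZeroDivisors B)
  have hfin : Module.Finite B (integralClosure B K) := CAlgSmall.NormNagata.finite_ic_field hN K
  refine ⟨hfin, ?_⟩
  let C := integralClosure B K
  have : IsScalarTower P B C := IsScalarTower.of_algebraMap_eq fun x =>
    Subtype.ext (IsScalarTower.algebraMap_apply P B K x)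
  have : Algebra.FiniteType P C := .trans (S := B) inferInstance inferInstance
  have : IsNoetherianRing C := IsNoetherianRing.of_finite B C
  have : IsIntegrallyClosed C := NormalizationLib.isIntegrallyClosed_integralClosure B K
  have hinj : Function.Injective (algebraMap B C) := fun a b h =>
    IsFractionRing.injective B K (congrArg Subtype.val h)
  have : Ring.DimensionLEOne C := ⟨fun {q} hq0 hq => by
    have hp0 : q.comap (algebraMap B C) ≠ ⊥ := fun h => hq0 (Ideal.eq_bot_of_comap_eq_bot h)
    have := hq
    have hp : (q.comap (algebraMap B C)).IsPrime := Ideal.IsPrime.comap _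
    have hmax : (q.comap (algebraMap B C)).IsMaximal := hp.isMaximal_of_ne_bot hp0
    exact Ideal.isMaximal_of_isIntegral_of_isMaximal_comap q hmax⟩
  have : IsDedekindDomain C := {}
  exact smooth_of_dedekind P C

/-- Descent of smoothness of the integral closure along a field extension. -/
theorem smooth_integralClosure_descent (F P A B L K : Type u) [Field F] [Field P] [Algebra F P]
    [Algebra.IsIntegral F P] [CommRing A] [IsDomain A] [Algebra F A] [CommRing B] [IsDomain B]
    [Algebra P B] [Algebra F B] [IsScalarTower F P B]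
    [Field L] [Algebra A L] [IsFractionRing A L] [Algebra F L] [IsScalarTower F A L]
    [Field K] [Algebra B K] [IsFractionRing B K] [Algebra P K] [IsScalarTower P B K]
    [Algebra F K] [IsScalarTower F P K]
    (ι : A →ₐ[F] B) (hι : Function.Injective ι)
    (hΦ : Function.Bijective (Algebra.TensorProduct.lift (Algebra.ofId P B) ι (fun _ _ => Commute.all _ _)))
    (s : Set (integralClosure B K)) (hspan : Submodule.span B s = ⊤)
    (hs : ∀ g ∈ s, ∃ a d : A, d ≠ 0 ∧ (g : K) * algebraMap B K (ι d) = algebraMap B K (ι a))
    (hsm : Algebra.Smooth P (integralClosure B K)) :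
    Algebra.Smooth F (integralClosure A L) := by
  set Φ := Algebra.TensorProduct.lift (Algebra.ofId P B) ι (fun _ _ => Commute.all _ _)
  have hΦ' : ∀ (x : P) (a : A), Φ (x ⊗ₜ a) = algebraMap P B x * ι a := fun x a => by
    simp [Φ, Algebra.ofId_apply]
  have : IsScalarTower F B K := IsScalarTower.of_algebraMap_eq fun x => by
    rw [IsScalarTower.algebraMap_apply F P B, ← IsScalarTower.algebraMap_apply P B K,
      ← IsScalarTower.algebraMap_apply F P K]
  let : Algebra A B := ι.toRingHom.toAlgebra
  have hAB : ∀ a, algebraMap A B a = ι a := fun a => rfl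
  have : IsScalarTower F A B := IsScalarTower.of_algebraMap_eq fun x => (ι.commutes x).symm
  let : Algebra A K := ((algebraMap B K).comp ι.toRingHom).toAlgebra
  have : IsScalarTower A B K := IsScalarTower.of_algebraMap_eq fun x => rfl
  have hinjAK : Function.Injective (algebraMap A K) := (IsFractionRing.injective B K).comp hι
  have hint : Algebra.IsIntegral A B := ⟨fun b => by
    obtain ⟨z, rfl⟩ := hΦ.2 b
    induction z using TensorProduct.induction_on with
    | zero => rw [map_zero]; exact isIntegral_zero
    | tmul x a =>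
      rw [hΦ']
      refine IsIntegral.mul ?_ (by rw [← hAB]; exact isIntegral_algebraMap)
      exact IsIntegral.tower_top (R := F) ((Algebra.IsIntegral.isIntegral x).map (IsScalarTower.toAlgHom F P B))
    | add x y hx hy => rw [map_add]; exact hx.add hy⟩
  let j₀ : L →+* K := IsFractionRing.lift hinjAK
  have hj₀ : ∀ a, j₀ (algebraMap A L a) = algebraMap A K a := IsFractionRing.lift_algebraMap hinjAK
  let j : L →ₐ[A] K := { j₀ with commutes' := hj₀ }
  let C' := integralClosure A L
  let C := integralClosure B K
  have : IsScalarTower P B C := IsScalarTower.of_algebraMap_eq fun x =>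
    Subtype.ext (IsScalarTower.algebraMap_apply P B K x)
  have : IsScalarTower F P C := IsScalarTower.of_algebraMap_eq fun x =>
    Subtype.ext (IsScalarTower.algebraMap_apply F P K x)
  let ψ : C' →ₐ[F] C :=
    { toFun := fun c => ⟨j c.1, ((c.2 : IsIntegral A c.1).map j).tower_top⟩
      map_one' := Subtype.ext (map_one j)
      map_mul' := fun a b => Subtype.ext (map_mul j _ _)
      map_zero' := Subtype.ext (map_zero j)
      map_add' := fun a b => Subtype.ext (map_add j _ _)
      commutes' := fun x => Subtype.ext (by
        show j (algebraMap F L x) = algebraMap F K x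
        rw [IsScalarTower.algebraMap_apply F A L, IsScalarTower.algebraMap_apply F B K, AlgHom.commutes,
          ← ι.commutes x]
        rfl) }
  let Ψ : P ⊗[F] C' →ₐ[P] C := Algebra.TensorProduct.lift (Algebra.ofId P C) ψ (fun _ _ => Commute.all _ _)
  have hΨ : ∀ (x : P) (c : C'), Ψ (x ⊗ₜ c) = algebraMap P C x * ψ c := fun x c => by
    simp [Ψ, Algebra.ofId_apply]
  let m : P ⊗[F] A →ₐ[P] P ⊗[F] C' :=
    Algebra.TensorProduct.map (AlgHom.id P P) (IsScalarTower.toAlgHom F A C')
  have hm : ∀ z, Ψ (m z) = algebraMap B C (Φ z) := by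
    intro z
    induction z using TensorProduct.induction_on with
    | zero => simp
    | tmul x a =>
      rw [hΦ', map_mul, ← IsScalarTower.algebraMap_apply P B C]
      show Ψ (x ⊗ₜ algebraMap A C' a) = _
      rw [hΨ]
      congr 1
      exact Subtype.ext (hj₀ a)
    | add x y hx hy => simp only [map_add, hx, hy]
  have hsurj : Function.Surjective Ψ := by
    intro y
    suffices h : y ∈ Ψ.range from h
    have hy : y ∈ Submodule.span B s := hspan ▸ Submodule.mem_top
    induction hy using Submodule.span_induction with
    | mem g hg =>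
      obtain ⟨a, d, hd, hgd⟩ := hs g hg
      have hd' : algebraMap A L d ≠ 0 := fun h => hd (IsFractionRing.injective A L (by rw [h, map_zero]))
      let l : L := algebraMap A L a / algebraMap A L d
      have hjl : j l = g := by
        show j₀ (algebraMap A L a / algebraMap A L d) = _
        rw [map_div₀, hj₀, hj₀, div_eq_iff (fun h => hd (hinjAK (by rw [h, map_zero])))]
        exact hgd.symm
      have hgint : IsIntegral A (g : K) := isIntegral_trans (R := A) (A := B) (g : K) g.2
      have hl : IsIntegral A l := (isIntegral_algHom_iff j j.toRingHom.injective).1 (hjl ▸ hgint)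
      exact ⟨(1 : P) ⊗ₜ ⟨l, hl⟩, by rw [← Subtype.coe_inj]; show (Ψ _).1 = _; rw [hΨ, map_one, one_mul]; exact hjl⟩
    | zero => exact zero_mem _
    | add x y _ _ hx hy => exact add_mem hx hy
    | smul b x _ hx =>
      obtain ⟨z, rfl⟩ := hΦ.2 b
      rw [Algebra.smul_def, ← hm]
      exact mul_mem ⟨_, rfl⟩ hx
  have hden : ∀ z : P ⊗[F] C', ∃ d : A, d ≠ 0 ∧ ∃ w, m w = (1 : P) ⊗ₜ algebraMap A C' d * z := by
    intro z
    induction z using TensorProduct.induction_on with
    | zero => exact ⟨1, one_ne_zero, 0, by simp⟩
    | tmul x c =>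
      obtain ⟨⟨a, d⟩, had⟩ := IsLocalization.surj (nonZeroDivisors A) (c : L)
      refine ⟨d, nonZeroDivisors.ne_zero d.2, x ⊗ₜ a, ?_⟩
      rw [Algebra.TensorProduct.tmul_mul_tmul, one_mul]
      show x ⊗ₜ algebraMap A C' a = _
      congr 1
      exact Subtype.ext (by simpa [mul_comm] using had.symm)
    | add x y hx hy =>
      obtain ⟨d, hd, w, hw⟩ := hx
      obtain ⟨e, he, v, hv⟩ := hy
      refine ⟨d * e, mul_ne_zero hd he, ((1 : P) ⊗ₜ e) * w + ((1 : P) ⊗ₜ d) * v, ?_⟩
      have h1 : ∀ r : A, m ((1 : P) ⊗ₜ r) = (1 : P) ⊗ₜ algebraMap A C' r := fun r => rfl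
      rw [map_add, map_mul m, map_mul m, hw, hv, h1, h1, mul_add,
        show (1 : P) ⊗ₜ[F] algebraMap A C' (d * e) = ((1 : P) ⊗ₜ[F] algebraMap A C' d) * ((1 : P) ⊗ₜ algebraMap A C' e) by
          rw [Algebra.TensorProduct.tmul_mul_tmul, one_mul, map_mul]]
      ring
  have hinj : Function.Injective Ψ := (injective_iff_map_eq_zero _).2 fun z hz => by
    obtain ⟨d, hd, w, hw⟩ := hden z
    have h0 : algebraMap B C (Φ w) = 0 := by rw [← hm, hw, map_mul, hz, mul_zero]
    have hw0 : Φ w = 0 := IsFractionRing.injective B K (by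
      simpa using congrArg Subtype.val h0)
    rw [hΦ.1 (hw0.trans (map_zero Φ).symm), map_zero] at hw
    let μ : C' →ₗ[F] C' := LinearMap.mulLeft F (algebraMap A C' d)
    have hμ : Function.Injective μ := fun a b h => by
      refine mul_left_cancel₀ (fun h0 => hd (IsFractionRing.injective A L ?_)) h
      simpa using congrArg Subtype.val h0
    refine (injective_iff_map_eq_zero (μ.lTensor P)).1 (Module.Flat.lTensor_preserves_injective_linearMap μ hμ) z ?_
    rw [hw]
    clear hz hw
    induction z using TensorProduct.induction_on with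
    | zero => simp
    | tmul x c => simp [μ]
    | add x y hx hy => simp [map_add, mul_add, hx, hy]
  have : Algebra.Smooth P (P ⊗[F] C') := hsm.of_equiv (AlgEquiv.ofBijective Ψ ⟨hinj, hsurj⟩).symm
  exact Algebra.Smooth.of_smooth_tensorProduct_of_faithfullyFlat P

theorem smooth_comp_descent (F P A B L K : Type u) [Field F] [Field P] [Algebra F P]
    [Algebra.IsIntegral F P] [CommRing A] [IsDomain A] [Algebra F A] [CommRing B] [IsDomain B]
    [Algebra P B] [Algebra F B] [IsScalarTower F P B]
    [Field L] [Algebra A L] [IsFractionRing A L]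
    [Field K] [Algebra B K] [IsFractionRing B K] [Algebra P K] [IsScalarTower P B K]
    [Algebra F K] [IsScalarTower F P K]
    (ι : A →ₐ[F] B) (hι : Function.Injective ι)
    (hΦ : Function.Bijective (Algebra.TensorProduct.lift (Algebra.ofId P B) ι (fun _ _ => Commute.all _ _)))
    (s : Set (integralClosure B K)) (hspan : Submodule.span B s = ⊤)
    (hs : ∀ g ∈ s, ∃ a d : A, d ≠ 0 ∧ (g : K) * algebraMap B K (ι d) = algebraMap B K (ι a))
    (hsm : Algebra.Smooth P (integralClosure B K)) :
    ((algebraMap A (integralClosure A L)).comp (algebraMap F A)).Smooth := by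
  let : Algebra F L := ((algebraMap A L).comp (algebraMap F A)).toAlgebra
  have : IsScalarTower F A L := IsScalarTower.of_algebraMap_eq fun x => rfl
  have h := smooth_integralClosure_descent F P A B L K ι hι hΦ s hspan hs hsm
  exact RingHom.smooth_algebraMap.2 h

variable (k F P : Type u) [Field k] [Field F] [Field P] [Algebra k F] [Algebra k P]
    [Algebra F P] [IsScalarTower k F P] (A : Type u) [CommRing A] [Algebra k A]

/-- The base change map. -/
noncomputable abbrev bcMap : F ⊗[k] A →ₐ[F] P ⊗[k] A :=
  Algebra.TensorProduct.map (Algebra.ofId F P) (AlgHom.id k A)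

theorem bcMap_injective : Function.Injective (bcMap k F P A) :=
  Module.Flat.rTensor_preserves_injective_linearMap (M := A)
    (IsScalarTower.toAlgHom k F P).toLinearMap (algebraMap F P).injective

/-- The induced map between the reductions. -/
noncomputable def redMap : Red (F ⊗[k] A) →ₐ[F] Red (P ⊗[k] A) :=
  Ideal.Quotient.liftₐ _ (((Ideal.Quotient.mkₐ P (nilradical (P ⊗[k] A))).restrictScalars F).comp (bcMap k F P A))
    fun c hc => Ideal.Quotient.eq_zero_iff_mem.2 ((mem_nilradical.1 hc).map (bcMap k F P A))

theorem redMap_mk (c : F ⊗[k] A) :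
    redMap k F P A (Ideal.Quotient.mk _ c) = Ideal.Quotient.mk _ (bcMap k F P A c) := rfl

theorem redMap_injective : Function.Injective (redMap k F P A) :=
  (injective_iff_map_eq_zero _).2 fun x hx => by
    obtain ⟨c, rfl⟩ := Ideal.Quotient.mk_surjective x
    obtain ⟨n, hn⟩ := mem_nilradical.1 (Ideal.Quotient.eq_zero_iff_mem.1 (hx : Ideal.Quotient.mk _ (bcMap k F P A c) = 0))
    rw [← map_pow] at hn
    exact Ideal.Quotient.eq_zero_iff_mem.2 (mem_nilradical.2 ⟨n, bcMap_injective k F P A (hn.trans (map_zero _).symm)⟩)

theorem bijective_lift_redMap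
    (hgen : nilradical (P ⊗[k] A) ≤ (nilradical (F ⊗[k] A)).map (bcMap k F P A).toRingHom) :
    Function.Bijective (Algebra.TensorProduct.lift (Algebra.ofId P (Red (P ⊗[k] A))) (redMap k F P A)
      (fun _ _ => Commute.all _ _)) := by
  set Φ := Algebra.TensorProduct.lift (Algebra.ofId P (Red (P ⊗[k] A))) (redMap k F P A)
      (fun _ _ => Commute.all _ _)
  let q : F ⊗[k] A →ₐ[F] Red (F ⊗[k] A) := Ideal.Quotient.mkₐ F _
  let g : P ⊗[k] A →ₐ[P] P ⊗[F] Red (F ⊗[k] A) :=
    Algebra.TensorProduct.lift Algebra.TensorProduct.includeLeft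
      (((Algebra.TensorProduct.includeRight (R := F) (A := P) (B := Red (F ⊗[k] A))).restrictScalars k).comp
        ((q.restrictScalars k).comp (Algebra.TensorProduct.includeRight (R := k) (A := F) (B := A))))
      (fun _ _ => Commute.all _ _)
  have hg : ∀ c, g (bcMap k F P A c) = (1 : P) ⊗ₜ[F] q c := by
    intro c
    induction c using TensorProduct.induction_on with
    | zero => simp
    | tmul x a =>
      simp only [g, bcMap, Algebra.TensorProduct.map_tmul, AlgHom.id_apply, Algebra.TensorProduct.lift_tmul,
        Algebra.TensorProduct.includeLeft_apply, AlgHom.coe_comp, Function.comp_apply,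
        AlgHom.restrictScalars_apply, Algebra.TensorProduct.includeRight_apply,
        Algebra.TensorProduct.tmul_mul_tmul, mul_one, one_mul]
      rw [show Algebra.ofId F P x = x • (1 : P) by rw [Algebra.smul_def, mul_one]; rfl,
        TensorProduct.smul_tmul, ← map_smul q, TensorProduct.smul_tmul', smul_eq_mul, mul_one]
    | add x y hx hy => simp only [map_add, hx, hy, tmul_add]
  have hgs : Function.Surjective g := by
    intro z
    suffices h : z ∈ g.range from h
    induction z using TensorProduct.induction_on with
    | zero => exact zero_mem _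
    | tmul x r =>
      obtain ⟨c, rfl⟩ := Ideal.Quotient.mk_surjective r
      have h1 : x ⊗ₜ[F] Ideal.Quotient.mk (nilradical (F ⊗[k] A)) c = (x • (1 : P ⊗[F] Red (F ⊗[k] A))) *
          ((1 : P) ⊗ₜ[F] q c) := by
        rw [Algebra.TensorProduct.one_def, TensorProduct.smul_tmul', Algebra.TensorProduct.tmul_mul_tmul,
          one_mul, smul_eq_mul, mul_one, mul_one]
        rfl
      rw [h1, ← hg]
      exact mul_mem (Subalgebra.smul_mem _ (one_mem _) x) ⟨_, rfl⟩
    | add x y hx hy => exact add_mem hx hy
  have hΦg : ∀ t, Φ (g t) = Ideal.Quotient.mk _ t := by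
    intro t
    have : Φ.comp g = Ideal.Quotient.mkₐ P _ := by
      refine Algebra.TensorProduct.ext (AlgHom.ext fun x => ?_) (AlgHom.ext fun a => ?_)
      · show Φ (g (x ⊗ₜ[k] (1 : A))) = Ideal.Quotient.mk _ (x ⊗ₜ[k] (1 : A))
        simp [g, Φ, ← Algebra.TensorProduct.one_def]
        rfl
      · show Φ (g ((1 : P) ⊗ₜ[k] a)) = Ideal.Quotient.mk _ ((1 : P) ⊗ₜ[k] a)
        simp [g, Φ, q, redMap_mk]
    exact AlgHom.congr_fun this t
  refine ⟨(injective_iff_map_eq_zero _).2 fun w hw => ?_, fun b => ?_⟩
  · obtain ⟨t, rfl⟩ := hgs w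
    rw [hΦg, Ideal.Quotient.eq_zero_iff_mem] at hw
    have hle : (nilradical (F ⊗[k] A)).map (bcMap k F P A).toRingHom ≤ RingHom.ker g.toRingHom := by
      rw [Ideal.map_le_iff_le_comap]
      intro c hc
      show g (bcMap k F P A c) = 0
      rw [hg, show q c = 0 from Ideal.Quotient.eq_zero_iff_mem.2 hc, tmul_zero]
    exact hle (hgen hw)
  · obtain ⟨t, rfl⟩ := Ideal.Quotient.mk_surjective b
    exact ⟨g t, hΦg t⟩

theorem surjective_comap_red' (R : Type u) [CommRing R] :
    Function.Surjective (PrimeSpectrum.comap (Ideal.Quotient.mk (nilradical R))) := fun p => by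
  rw [← Set.mem_range, range_comap_of_surjective _ _ Ideal.Quotient.mk_surjective, Ideal.mk_ker,
    PrimeSpectrum.mem_zeroLocus]
  exact nilradical_le_prime p.asIdeal

theorem isReduced_red (R : Type u) [CommRing R] : IsReduced (Red R) :=
  (Ideal.isRadical_iff_quotient_reduced _).1 fun x hx => by
    obtain ⟨n, hn⟩ := hx
    obtain ⟨m, hm⟩ := mem_nilradical.1 hn
    exact mem_nilradical.2 ⟨n * m, by rw [pow_mul]; exact hm⟩

/-- Purely inseparable base change gives a homeomorphism on spectra. -/
theorem isHomeomorph_includeRight (k P : Type u) [Field k] [Field P] [Algebra k P]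
    [IsPurelyInseparable k P] (A : Type u) [CommRing A] [Algebra k A] :
    IsHomeomorph (PrimeSpectrum.comap
      (Algebra.TensorProduct.includeRight (R := k) (A := P) (B := A)).toRingHom) := by
  have e : Algebra.TensorProduct.includeRight (R := k) (A := P) (B := A) =
      (Algebra.TensorProduct.comm k A P).toAlgHom.comp
        (IsScalarTower.toAlgHom k A (A ⊗[k] P)) := by ext; simp
  rw [e]
  simp only [AlgHom.toRingHom_eq_coe, AlgHom.comp_toRingHom, AlgEquiv.toAlgHom_toRingHom,
    IsScalarTower.coe_toAlgHom, PrimeSpectrum.comap_comp]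
  exact (PrimeSpectrum.isHomeomorph_comap_of_isPurelyInseparable k P A).comp
    (PrimeSpectrum.isHomeomorph_comap_of_bijective (Algebra.TensorProduct.comm k A P).bijective)

theorem isDomain_red (k P : Type u) [Field k] [Field P] [Algebra k P]
    [IsPurelyInseparable k P] (A : Type u) [CommRing A] [IsDomain A] [Algebra k A] :
    IsDomain (Red (P ⊗[k] A)) := by
  have h := (isHomeomorph_includeRight k P A).homeomorph.irreducibleSpace_iff.2 inferInstance
  have := (PrimeSpectrum.irreducibleSpace_iff_isPrime_nilradical).1 h
  exact Ideal.Quotient.isDomain _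

theorem krullDimLE_red (k P : Type u) [Field k] [Field P] [Algebra k P]
    [IsPurelyInseparable k P] (A : Type u) [CommRing A] [Algebra k A] [Ring.KrullDimLE 1 A] :
    Ring.KrullDimLE 1 (Red (P ⊗[k] A)) := by
  have h1 : ringKrullDim (P ⊗[k] A) = ringKrullDim A := by
    rw [← PrimeSpectrum.topologicalKrullDim_eq_ringKrullDim, ← PrimeSpectrum.topologicalKrullDim_eq_ringKrullDim]
    exact (isHomeomorph_includeRight k P A).topologicalKrullDim_eq
  rw [Ring.krullDimLE_iff]
  exact (ringKrullDim_quotient_le _).trans (h1.le.trans (Ring.krullDimLE_iff.1 inferInstance))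

theorem exists_finset_range (k P : Type u) [Field k] [Field P] [Algebra k P] (A : Type u) [CommRing A]
    [Algebra k A] (t : P ⊗[k] A) : ∃ S : Finset P, ∀ k' : IntermediateField k P, (S : Set P) ⊆ k' →
      t ∈ Set.range (bcMap k k' P A) := by
  classical
  induction t using TensorProduct.induction_on with
  | zero => exact ⟨∅, fun k' _ => ⟨0, map_zero _⟩⟩
  | tmul x a => exact ⟨{x}, fun k' h => ⟨(⟨x, h (by simp)⟩ : k') ⊗ₜ a, rfl⟩⟩
  | add x y hx hy =>
    obtain ⟨S, hS⟩ := hx
    obtain ⟨R, hR⟩ := hy
    refine ⟨S ∪ R, fun k' h => ?_⟩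
    rw [Finset.coe_union, Set.union_subset_iff] at h
    obtain ⟨a, ha⟩ := hS k' h.1
    obtain ⟨b, hb⟩ := hR k' h.2
    exact ⟨a + b, by rw [map_add, ha, hb]⟩

/-- Over all large enough subextensions of a perfect purely inseparable extension, the normalization of
the reduced base change is smooth. -/
theorem exists_smooth_normalization (k P : Type u) [Field k] [Field P] [PerfectField P] [Algebra k P]
    [IsPurelyInseparable k P] (A : Type u) [CommRing A] [IsDomain A] [Algebra k A]
    [Algebra.FiniteType k A] [Ring.KrullDimLE 1 A] :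
    ∃ S : Finset P, ∀ k' : IntermediateField k P, (S : Set P) ⊆ k' →
      ∀ (L : Type u) [Field L] [Algebra (Red (↥k' ⊗[k] A)) L] [IsFractionRing (Red (↥k' ⊗[k] A)) L],
        ((algebraMap (Red (↥k' ⊗[k] A)) (integralClosure (Red (↥k' ⊗[k] A)) L)).comp
          (algebraMap k' (Red (↥k' ⊗[k] A)))).Smooth := by
  classical
  let B := Red (P ⊗[k] A)
  have := isDomain_red k P A
  have := krullDimLE_red k P A
  let K := FractionRing B
  obtain ⟨hfin, hsm⟩ := smooth_integralClosure P B K
  obtain ⟨s, hspan⟩ := hfin.fg_top
  choose a ha using fun g : integralClosure B K => IsLocalization.surj (nonZeroDivisors B) (g : K)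
  choose num hnum using fun g : integralClosure B K => Ideal.Quotient.mk_surjective (a g).1
  choose den hden using fun g : integralClosure B K => Ideal.Quotient.mk_surjective ((a g).2 : B)
  have : IsNoetherianRing (P ⊗[k] A) := Algebra.FiniteType.isNoetherianRing P _
  obtain ⟨G, hG⟩ : (nilradical (P ⊗[k] A)).FG := IsNoetherian.noetherian _
  choose S hS using exists_finset_range k P A
  refine ⟨(G ∪ s.image num ∪ s.image den).biUnion S, fun k' hk' L _ _ _ => ?_⟩
  have hmem : ∀ t ∈ G ∪ s.image num ∪ s.image den, t ∈ Set.range (bcMap k k' P A) := fun t ht =>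
    hS t k' (le_trans (fun x hx => Finset.mem_coe.2 (Finset.mem_biUnion.2 ⟨t, ht, hx⟩)) hk')
  have hgen : nilradical (P ⊗[k] A) ≤ (nilradical (↥k' ⊗[k] A)).map (bcMap k k' P A).toRingHom := by
    rw [← hG, Ideal.span_le]
    intro b hb
    obtain ⟨c, hc⟩ := hmem b (Finset.mem_union_left _ (Finset.mem_union_left _ hb))
    rw [← hc]
    refine Ideal.mem_map_of_mem _ (mem_nilradical.2 ?_)
    obtain ⟨e, he⟩ := mem_nilradical.1 (hG ▸ Ideal.subset_span hb : b ∈ nilradical (P ⊗[k] A))
    exact ⟨e, bcMap_injective k k' P A (by rw [map_pow, map_zero, hc, he])⟩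
  let A' := Red (↥k' ⊗[k] A)
  have : IsDomain A' := (redMap_injective k k' P A).isDomain
  have hs : ∀ g ∈ (s : Set (integralClosure B K)), ∃ u d : A', d ≠ 0 ∧
      (g : K) * algebraMap B K (redMap k k' P A d) = algebraMap B K (redMap k k' P A u) := by
    intro g hg
    obtain ⟨u, hu⟩ := hmem (num g) (Finset.mem_union_left _ (Finset.mem_union_right _ (Finset.mem_image_of_mem _ hg)))
    obtain ⟨d, hd⟩ := hmem (den g) (Finset.mem_union_right _ (Finset.mem_image_of_mem _ hg))
    refine ⟨Ideal.Quotient.mk _ u, Ideal.Quotient.mk _ d, fun h => ?_, ?_⟩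
    · refine nonZeroDivisors.ne_zero (a g).2.2 ?_
      rw [← hden g, ← hd, ← redMap_mk, h, map_zero]
    · rw [redMap_mk, redMap_mk, hu, hd, hnum g, hden g]
      exact ha g
  exact smooth_comp_descent k' P A' B L K (redMap k k' P A) (redMap_injective k k' P A)
    (bijective_lift_redMap k k' P A hgen) (s : Set (integralClosure B K)) hspan hs hsm

end Groth.Agent.EGA43.SmoothNorm
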