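import Mathlib
import Groth.Prelude.Def_Curv2
import Groth.Agent.EGA43.SmoothNorm.Ring
import Groth.Agent.NormalizationLib.Basic
import Groth.Agent.Props12.KerReduced

/-! The normalization of the reduced base change of a curve becomes smooth after a finite purely
inseparable extension (schemes). -/

set_option autoImplicit false
set_option backward.isDefEq.respectTransparency false

universe u

namespace Groth.Agent.EGA43.SmoothNorm

open CategoryTheory CategoryTheory.Limits AlgebraicGeometry TensorProduct
open Groth.Agent.FlatMor12.RedSmooth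

/-- Smoothness of the normalization over an affine chart, from the ring statement. -/
theorem smooth_normalization_chart {Z : Scheme.{u}} [AlgebraicGeometry.IsIntegral Z]
    [QuasiCompact (Z.fromSpecStalk (genericPoint Z))] [QuasiSeparated (Z.fromSpecStalk (genericPoint Z))]
    (F R : Type u) [Field F] [CommRing R] [Nontrivial R] [Algebra F R]
    (π : Z ⟶ Spec (CommRingCat.of F)) (j : Spec (CommRingCat.of R) ⟶ Z) [IsOpenImmersion j]
    (hj : j ≫ π = Spec.map (CommRingCat.ofHom (algebraMap F R)))
    (h : ∀ (L : Type u) [Field L] [Algebra R L] [IsFractionRing R L],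
      ((algebraMap R (integralClosure R L)).comp (algebraMap F R)).Smooth) :
    Smooth ((Curv2.normalizationι Z ⁻¹ᵁ j.opensRange).ι ≫ Curv2.normalizationι Z ≫ π) := by
  let ν := Curv2.normalizationι Z
  let W := j.opensRange
  have hW : IsAffineOpen W := isAffineOpen_opensRange j
  have : Nonempty W := by
    obtain ⟨p⟩ : Nonempty (PrimeSpectrum R) := inferInstance
    exact ⟨⟨j p, p, rfl⟩⟩
  let e := IsOpenImmersion.isoOfRangeEq hW.fromSpec j (by rw [hW.range_fromSpec]; rfl)
  obtain ⟨θ, hθ⟩ := Spec.map_surjective e.hom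
  have : IsIso θ := by
    have : IsIso (Spec.map θ) := hθ ▸ inferInstance
    have : IsIso (Scheme.Spec.map θ.op) := this
    have : IsIso θ.op := isIso_of_reflects_iso θ.op Scheme.Spec
    exact isIso_of_op θ
  have hπ : hW.fromSpec ≫ π = Spec.map (CommRingCat.ofHom (algebraMap F R) ≫ θ) := by
    rw [Spec.map_comp, hθ, ← hj, ← Category.assoc]
    congr 1
    exact (IsOpenImmersion.isoOfRangeEq_hom_fac _ _ _).symm
  let : Algebra R Z.functionField := ((Z.germToFunctionField W).hom.comp θ.hom).toAlgebra
  have := functionField_isFractionRing_of_isAffineOpen Z W hW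
  let σ : R ≃+* Γ(Z, W) := (asIso θ).commRingCatIsoToRingEquiv
  have : IsFractionRing R Z.functionField :=
    by
      have h1 := IsLocalization.isLocalization_of_base_ringEquiv (nonZeroDivisors Γ(Z, W))
        Z.functionField σ.symm
      rw [MulEquivClass.map_nonZeroDivisors] at h1
      exact h1
  have hsm := h Z.functionField
  let φ : Z.functionField →+* Z.functionField := RingHom.id _
  have hg : Z.fromSpecStalk (genericPoint Z) =
      Spec.map (CommRingCat.ofHom φ) ≫ Z.fromSpecStalk (genericPoint Z) := by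
    rw [show CommRingCat.ofHom φ = 𝟙 _ from rfl, Spec.map_id, Category.id_comp]
  let N := NormalizationLib.normToK φ _ hg W hW
  have hint : ∀ y : Z.functionField,
      (NormalizationLib.toK φ W).IsIntegralElem y ↔ _root_.IsIntegral R y := fun y => by
    constructor
    · rintro ⟨q, hq, hqy⟩
      refine ⟨q.map σ.symm.toRingHom, hq.map _, ?_⟩
      rw [Polynomial.eval₂_map]
      convert hqy using 2
      ext a
      show Z.germToFunctionField W (σ (σ.symm a)) = _
      rw [σ.apply_symm_apply]
      rfl
    · rintro ⟨q, hq, hqy⟩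
      exact ⟨q.map θ.hom, hq.map _, by rw [Polynomial.eval₂_map]; exact hqy⟩
  let ω : Γ(Curv2.normalization Z, ν ⁻¹ᵁ W) →+* integralClosure R Z.functionField :=
    N.hom.codRestrict (integralClosure R Z.functionField).toSubring
      fun v => (hint _).1 ((NormalizationLib.mem_range_normToK φ _ hg W hW _).mp ⟨v, rfl⟩)
  have hω : Function.Bijective ω :=
    ⟨fun a b h => NormalizationLib.injective_normToK φ _ hg W hW (congrArg Subtype.val h), fun y => by
      obtain ⟨v, hv⟩ := (NormalizationLib.mem_range_normToK φ _ hg W hW _).mpr ((hint _).2 y.2)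
      exact ⟨v, Subtype.ext hv⟩⟩
  let ωe := RingEquiv.ofBijective ω hω
  have hr : (CommRingCat.ofHom (algebraMap F R) ≫ θ ≫ ν.app W).hom =
      ωe.symm.toRingHom.comp ((algebraMap R (integralClosure R Z.functionField)).comp (algebraMap F R)) := by
    ext x
    refine ωe.injective ?_
    show _ = ωe (ωe.symm _)
    rw [ωe.apply_symm_apply]
    exact Subtype.ext (NormalizationLib.normToK_fromNormalization φ _ hg W hW _)
  have : IsAffineHom ν := inferInstanceAs (IsAffineHom (Z.fromSpecStalk (genericPoint Z)).fromNormalization)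
  have hW' : IsAffineOpen (ν ⁻¹ᵁ W) := hW.preimage ν
  rw [← hW'.isoSpec_hom_fromSpec_assoc, MorphismProperty.cancel_left_of_respectsIso @Smooth,
    ← IsAffineOpen.SpecMap_appLE_fromSpec_assoc ν hW hW' le_rfl, hπ, ← Spec.map_comp,
    HasRingHomProperty.Spec_iff (P := @Smooth), ← Scheme.Hom.app_eq_appLE, Category.assoc]
  exact hr ▸ RingHom.Smooth.respectsIso.1 _ ωe.symm hsm

/-- The kernel of a surjective closed immersion with reduced source is the nilradical. -/
theorem ker_eq_nilradical {A B : Scheme.{u}} (g : A ⟶ B) [IsClosedImmersion g] [Surjective g]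
    [AlgebraicGeometry.IsReduced A] : g.ker = B.nilradical := by
  refine le_antisymm ?_ ?_
  · rw [← Scheme.IdealSheafData.vanishingIdeal_top]
    refine Scheme.IdealSheafData.le_support_iff_le_vanishingIdeal.1 fun b _ => ?_
    obtain ⟨a, rfl⟩ := g.surjective b
    exact g.range_subset_ker_support ⟨a, rfl⟩
  · rw [Scheme.IdealSheafData.le_def]
    intro U x hx
    rw [Scheme.Hom.ker_apply, RingHom.mem_ker]
    obtain ⟨n, hn⟩ := (Ideal.mem_radical_iff.1 (show x ∈ Ideal.radical ((⊥ : B.IdealSheafData).ideal U) from hx))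
    simp only [Scheme.IdealSheafData.ideal_bot, Pi.bot_apply, Submodule.mem_bot] at hn
    exact IsReduced.eq_zero _ ⟨n, by rw [← map_pow, hn, map_zero]⟩

theorem isReduced_nilradical_subscheme (Y : Scheme.{u}) :
    AlgebraicGeometry.IsReduced Y.nilradical.subscheme := by
  rw [← Scheme.IdealSheafData.vanishingIdeal_top]
  exact Props12.isReduced_subscheme_vanishingIdeal _

theorem surjective_nilradical_subschemeι (Y : Scheme.{u}) : Surjective Y.nilradical.subschemeι :=
  ⟨Set.range_eq_univ.1 (by rw [Scheme.IdealSheafData.range_subschemeι, Scheme.support_nilradical]; rfl)⟩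

variable (k : Type u) [Field k] (X : Scheme.{u}) [X.Over (Spec (CommRingCat.of k))]
  (k' : Type u) [Field k'] [Algebra k k']

/-- An affine open of `X` gives an affine chart of the reduction of the base change. -/
theorem exists_chart (A : Type u) [CommRing A] [Algebra k A] (e : Spec (CommRingCat.of A) ⟶ X)
    [IsOpenImmersion e] (he : e ≫ (X ↘ Spec (CommRingCat.of k)) = Spec.map (CommRingCat.ofHom (algebraMap k A))) :
    ∃ (j : Spec (CommRingCat.of (Red (k' ⊗[k] A))) ⟶ (Curv2.bc k X k').nilradical.subscheme),
      IsOpenImmersion j ∧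
      j ≫ (Curv2.bc k X k').nilradical.subschemeι ≫ Curv2.bcSnd k X k' =
        Spec.map (CommRingCat.ofHom (algebraMap k' (Red (k' ⊗[k] A)))) ∧
      ∀ z, Curv2.bcFst k X k' ((Curv2.bc k X k').nilradical.subschemeι z) ∈ Set.range e → z ∈ Set.range j := by
  let q := X ↘ Spec (CommRingCat.of k)
  let s := Spec.map (CommRingCat.ofHom (algebraMap k k'))
  let m : pullback (Spec.map (CommRingCat.ofHom (algebraMap k A))) s ⟶ Curv2.bc k X k' :=
    pullback.map _ _ _ _ e (𝟙 _) (𝟙 _) (by rw [Category.comp_id, he]) (by simp [s])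
  have hm : IsPullback m (pullback.fst (Spec.map (CommRingCat.ofHom (algebraMap k A))) s) (Curv2.bcFst k X k') e := by
    refine IsPullback.of_right ?_ (pullback.lift_fst _ _ _) (IsPullback.of_hasPullback q s).flip
    rw [show m ≫ pullback.snd q s = pullback.snd (Spec.map (CommRingCat.ofHom (algebraMap k A))) s from
      (pullback.lift_snd _ _ _).trans (Category.comp_id _), he]
    exact (IsPullback.of_hasPullback (Spec.map (CommRingCat.ofHom (algebraMap k A))) s).flip
  have : IsOpenImmersion m := MorphismProperty.of_isPullback (P := @IsOpenImmersion) hm.flip inferInstance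
  let m' : Spec (CommRingCat.of (k' ⊗[k] A)) ⟶ Curv2.bc k X k' :=
    (pullbackSpecIso k k' A).inv ≫ (pullbackSymmetry _ _).hom ≫ m
  let i : Spec (CommRingCat.of (Red (k' ⊗[k] A))) ⟶ Spec (CommRingCat.of (k' ⊗[k] A)) :=
    Spec.map (CommRingCat.ofHom (Ideal.Quotient.mk (nilradical (k' ⊗[k] A))))
  have : IsClosedImmersion i := IsClosedImmersion.spec_of_surjective _ Ideal.Quotient.mk_surjective
  have : Surjective i := ⟨surjective_comap_red' _⟩
  have : _root_.IsReduced (CommRingCat.of (Red (k' ⊗[k] A))) := isReduced_red _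
  let ι := (Curv2.bc k X k').nilradical.subschemeι
  have := surjective_nilradical_subschemeι (Curv2.bc k X k')
  have := isReduced_nilradical_subscheme (Curv2.bc k X k')
  have : IsClosedImmersion (pullback.fst m' ι) := MorphismProperty.pullback_fst _ _ inferInstance
  have : Surjective (pullback.fst m' ι) := MorphismProperty.pullback_fst (P := @Surjective) _ _ inferInstance
  have : AlgebraicGeometry.IsReduced (pullback m' ι) := isReduced_of_isOpenImmersion (pullback.snd m' ι)
  have hker : (pullback.fst m' ι).ker = i.ker := by rw [ker_eq_nilradical, ker_eq_nilradical]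
  let l := IsClosedImmersion.lift (pullback.fst m' ι) i hker.le
  have : IsIso l := IsClosedImmersion.isIso_lift _ _ hker
  have hl : l ≫ pullback.fst m' ι = i := IsClosedImmersion.lift_fac _ _ _
  refine ⟨l ≫ pullback.snd m' ι, inferInstance, ?_, fun z hz => ?_⟩
  · rw [Category.assoc, ← pullback.condition_assoc, reassoc_of% hl]
    have : m' ≫ Curv2.bcSnd k X k' = Spec.map (CommRingCat.ofHom (algebraMap k' (k' ⊗[k] A))) := by
      simp only [m', Category.assoc, show m ≫ Curv2.bcSnd k X k' =
        pullback.snd (Spec.map (CommRingCat.ofHom (algebraMap k A))) s from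
        (pullback.lift_snd _ _ _).trans (Category.comp_id _)]
      refine Eq.trans ?_ ((pullbackSpecIso_inv_fst k k' A).trans rfl)
      congr 1
      exact pullbackSymmetry_hom_comp_snd _ _
    rw [this, ← Spec.map_comp]
    congr 1
  · obtain ⟨a, ha⟩ := hz
    obtain ⟨c, hc, -⟩ := Scheme.Pullback.exists_preimage_pullback (f := Curv2.bcFst k X k') (g := e) (ι z) a ha.symm
    have hzm : ι z ∈ Set.range m := ⟨hm.isoPullback.inv c, by
      rw [← Scheme.Hom.comp_apply, hm.isoPullback_inv_fst, hc]⟩
    have hzm' : ι z ∈ Set.range m' := by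
      obtain ⟨b, hb⟩ := hzm
      refine ⟨((pullbackSymmetry _ _).inv ≫ (pullbackSpecIso k k' A).hom) b, ?_⟩
      rw [← Scheme.Hom.comp_apply, show ((pullbackSymmetry _ _).inv ≫ (pullbackSpecIso k k' A).hom) ≫ m' = m by
        simp [m'], hb]
    have hz2 : z ∈ Set.range (pullback.snd m' ι) := by
      rw [Scheme.Pullback.range_snd]
      exact hzm'
    obtain ⟨w, hw⟩ := hz2
    exact ⟨inv l w, by rw [← Scheme.Hom.comp_apply, IsIso.inv_hom_id_assoc]; exact hw⟩

theorem isHomeomorph_bcFst [FiniteDimensional k k'] [IsPurelyInseparable k k'] :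
    IsHomeomorph (Curv2.bcFst k X k') := by
  let s := Spec.map (CommRingCat.ofHom (algebraMap k k'))
  have : IsFinite s := (IsFinite.SpecMap_iff _).2 (RingHom.finite_algebraMap.2 inferInstance)
  have : Surjective s := ⟨fun p => ⟨(⟨⊥, Ideal.isPrime_bot⟩ : PrimeSpectrum k'), Subsingleton.elim (α := PrimeSpectrum k) _ _⟩⟩
  have : UniversallyInjective s := by
    refine ((tfae_universallyInjective s).out 1 0).1 ?_
    intro K iK g₁ g₂ h
    let := iK
    obtain ⟨φ₁, rfl⟩ := Spec.map_surjective g₁
    obtain ⟨φ₂, rfl⟩ := Spec.map_surjective g₂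
    simp only [s, ← Spec.map_comp] at h
    congr 1
    ext1
    exact IsPurelyInseparable.injective_comp_algebraMap k k' K (congrArg CommRingCat.Hom.hom (Spec.map_injective h))
  have : IsFinite (Curv2.bcFst k X k') := MorphismProperty.pullback_fst (P := @IsFinite) _ _ inferInstance
  have : Surjective (Curv2.bcFst k X k') := MorphismProperty.pullback_fst (P := @Surjective) _ _ inferInstance
  have : UniversallyInjective (Curv2.bcFst k X k') := MorphismProperty.pullback_fst (P := @UniversallyInjective) _ _ inferInstance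
  exact isHomeomorph_iff_continuous_isClosedMap_bijective.2
    ⟨(Curv2.bcFst k X k').continuous, (Curv2.bcFst k X k').isClosedMap,
      (Curv2.bcFst k X k').injective, (Curv2.bcFst k X k').surjective⟩

theorem isIntegral_red_bc [FiniteDimensional k k'] [IsPurelyInseparable k k'] [AlgebraicGeometry.IsIntegral X] :
    AlgebraicGeometry.IsIntegral (Curv2.bc k X k').nilradical.subscheme := by
  let ι := (Curv2.bc k X k').nilradical.subschemeι
  have := surjective_nilradical_subschemeι (Curv2.bc k X k')
  have := isReduced_nilradical_subscheme (Curv2.bc k X k')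
  have h1 : IsHomeomorph (Curv2.bcFst k X k') := isHomeomorph_bcFst k X k'
  have h2 : IsHomeomorph ι :=
    isHomeomorph_iff_continuous_isClosedMap_bijective.2 ⟨ι.continuous, ι.isClosedEmbedding.isClosedMap,
      ι.isClosedEmbedding.injective, ι.surjective⟩
  have : IrreducibleSpace (Curv2.bc k X k').nilradical.subscheme :=
    ((h1.comp h2).homeomorph).irreducibleSpace_iff.2 inferInstance
  exact isIntegral_of_irreducibleSpace_of_isReduced _

theorem quasiCompact_fromSpecStalk (Z : Scheme.{u}) [AlgebraicGeometry.IsIntegral Z] :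
    QuasiCompact (Z.fromSpecStalk (genericPoint Z)) := by
  refine ⟨fun U _ _ => Set.Finite.isCompact ?_⟩
  have : Subsingleton (Spec (Z.presheaf.stalk (genericPoint Z))) :=
    inferInstanceAs (Subsingleton (PrimeSpectrum Z.functionField))
  exact Set.subsingleton_of_subsingleton.finite

omit k'
/-- The normalization of the reduced base change becomes smooth. -/
theorem exists_smooth (X : Scheme.{u}) [X.Over (Spec (CommRingCat.of k))] [AlgebraicGeometry.IsIntegral X]
    [LocallyOfFiniteType (X ↘ Spec (CommRingCat.of k))] [QuasiCompact (X ↘ Spec (CommRingCat.of k))]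
    (hdim : topologicalKrullDim X ≤ 1) :
    ∃ (k' : Type u) (_ : Field k') (_ : Algebra k k'), FiniteDimensional k k' ∧ IsPurelyInseparable k k' ∧
      ∃ (_ : AlgebraicGeometry.IsIntegral (Curv2.bc k X k').nilradical.subscheme)
        (_ : QuasiCompact ((Curv2.bc k X k').nilradical.subscheme.fromSpecStalk
              (genericPoint (Curv2.bc k X k').nilradical.subscheme)))
        (_ : QuasiSeparated ((Curv2.bc k X k').nilradical.subscheme.fromSpecStalk
              (genericPoint (Curv2.bc k X k').nilradical.subscheme))),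
        Smooth (Curv2.normalizationι (Curv2.bc k X k').nilradical.subscheme ≫
          (Curv2.bc k X k').nilradical.subschemeι ≫ Curv2.bcSnd k X k') := by
  classical
  let q := X ↘ Spec (CommRingCat.of k)
  have : CompactSpace X := QuasiCompact.compactSpace_of_compactSpace q
  let P := perfectClosure k (AlgebraicClosure k)
  have hloc : ∀ x : X, ∃ U : X.affineOpens, x ∈ U.1 := fun x => by
    obtain ⟨_, ⟨U, hU, rfl⟩, hxU, -⟩ :=
      X.isBasis_affineOpens.exists_subset_of_mem_open (Set.mem_univ x) isOpen_univ
    exact ⟨⟨U, hU⟩, hxU⟩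
  choose U hxU using hloc
  obtain ⟨pts, hpts⟩ := isCompact_univ.elim_finite_subcover (fun x => ((U x).1 : Set X))
    (fun x => (U x).1.isOpen) (fun x _ => Set.mem_iUnion.2 ⟨x, hxU x⟩)
  choose φ hφ using fun x => Spec.map_surjective ((U x).2.fromSpec ≫ q)
  let alg : ∀ x, Algebra k Γ(X, (U x).1) := fun x => (φ x).hom.toAlgebra
  have key : ∀ x, ∃ S : Finset P, ∀ k' : IntermediateField k P, (S : Set P) ⊆ k' →
      ∀ (L : Type u) [Field L] [Algebra (Red (↥k' ⊗[k] Γ(X, (U x).1))) L]
        [IsFractionRing (Red (↥k' ⊗[k] Γ(X, (U x).1))) L],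
        ((algebraMap (Red (↥k' ⊗[k] Γ(X, (U x).1))) (integralClosure (Red (↥k' ⊗[k] Γ(X, (U x).1))) L)).comp
          (algebraMap k' (Red (↥k' ⊗[k] Γ(X, (U x).1))))).Smooth := fun x => by
    have : Nonempty (U x).1 := ⟨⟨x, hxU x⟩⟩
    have : Algebra.FiniteType k Γ(X, (U x).1) := ((HasRingHomProperty.Spec_iff (P := @LocallyOfFiniteType)
      (φ := φ x)).mp (hφ x ▸ (inferInstance : LocallyOfFiniteType ((U x).2.fromSpec ≫ q))) : (φ x).hom.FiniteType)
    have : Ring.KrullDimLE 1 Γ(X, (U x).1) := by
      rw [Ring.krullDimLE_iff, ← PrimeSpectrum.topologicalKrullDim_eq_ringKrullDim]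
      exact ((U x).2.fromSpec.isOpenEmbedding.isInducing.topologicalKrullDim_le).trans hdim
    exact exists_smooth_normalization k P _
  choose S hS using key
  let k' : IntermediateField k P := IntermediateField.adjoin k ((pts.biUnion S : Finset P) : Set P)
  have hfin : FiniteDimensional k k' :=
    IntermediateField.finiteDimensional_adjoin (fun x _ => Algebra.IsIntegral.isIntegral x)
  have hpi : IsPurelyInseparable k k' := IsPurelyInseparable.tower_bot k k' P
  let Z := (Curv2.bc k X k').nilradical.subscheme
  have hZ : AlgebraicGeometry.IsIntegral Z := isIntegral_red_bc k X k'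
  have hqc := quasiCompact_fromSpecStalk Z
  have hqs : QuasiSeparated (Z.fromSpecStalk (genericPoint Z)) := inferInstance
  refine ⟨k', inferInstance, inferInstance, hfin, hpi, hZ, hqc, hqs, ?_⟩
  let π := (Curv2.bc k X k').nilradical.subschemeι ≫ Curv2.bcSnd k X k'
  let ν := Curv2.normalizationι Z
  choose j hj hjπ hjcov using fun x => exists_chart k X k' Γ(X, (U x).1) (U x).2.fromSpec (by
    rw [← hφ x]; rfl)
  refine IsZariskiLocalAtSource.of_openCover (P := @Smooth)
    ((Curv2.normalization Z).openCoverOfIsOpenCover (fun x : pts => ν ⁻¹ᵁ (j x.1).opensRange) (.mk (eq_top_iff.2 fun z _ => ?_)))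
    fun x => ?_
  · obtain ⟨x, hx, hzx⟩ := Set.mem_iUnion₂.1 (hpts (Set.mem_univ
      (Curv2.bcFst k X k' ((Curv2.bc k X k').nilradical.subschemeι (ν z)))))
    refine TopologicalSpace.Opens.mem_iSup.2 ⟨⟨x, hx⟩, ?_⟩
    exact hjcov x _ (by rw [(U x).2.range_fromSpec]; exact hzx)
  · have := hj x.1
    have : Nonempty (U x.1).1 := ⟨⟨x.1, hxU x.1⟩⟩
    have := isDomain_red k k' Γ(X, (U x.1).1)
    refine smooth_normalization_chart k' _ π (j x.1) (hjπ x.1) (hS x.1 k' ?_)
    intro y hy
    exact IntermediateField.subset_adjoin k _ (Finset.mem_coe.2 (Finset.mem_biUnion.2 ⟨x.1, x.2, hy⟩))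

end Groth.Agent.EGA43.SmoothNorm
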